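import Groth.Agent.TildeD.Main
import Groth.Agent.TildeD.Exact
import Groth.Agent.QCohLib.Coherent
import Groth.Agent.AmpleLib.Product
import Groth.Agent.ProjBundleLib.FTQuot

/-! Quasi-coherent modules on quasi-compact opens of affine schemes. -/

set_option autoImplicit false
set_option linter.style.haveILetI false
set_option backward.isDefEq.respectTransparency false

universe u

open CategoryTheory CategoryTheory.Limits AlgebraicGeometry TopologicalSpace Opposite
open Groth.Agent.PullbackMod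

noncomputable section

namespace Groth.Agent.TildeOpenLib

variable {R : CommRingCat.{u}} (V : (Spec R).Opens)

theorem quasiCompact_ι (hV : IsCompact (V : Set (Spec R))) : QuasiCompact V.ι :=
  (quasiCompact_iff _).2 fun W hW hWc => by
    rw [V.ι.isOpenEmbedding.isInducing.isCompact_iff]
    have h1 := QuasiSeparatedSpace.inter_isCompact (V : Set (Spec R)) W V.2 hV hW hWc
    convert h1 using 1
    rw [Set.image_preimage_eq_inter_range, Scheme.Opens.range_ι, Set.inter_comm]

theorem exists_tilde (hV : IsCompact (V : Set (Spec R))) (F : (V : Scheme.{u}).Modules) [Coh.IsQCoh F] :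
    ∃ N : ModuleCat.{u} R, Nonempty (tilde N ≅ (Scheme.Modules.pushforward V.ι).obj F) ∧
      Nonempty (F ≅ (tilde N).restrict V.ι) := by
  haveI := quasiCompact_ι V hV
  haveI : Coh.IsQCoh ((Scheme.Modules.pushforward V.ι).obj F) := QCohLib.isQCoh_pushforward F V.ι
  obtain ⟨N, ⟨e⟩⟩ := TildeD.qcoh_exists_tilde R ((Scheme.Modules.pushforward V.ι).obj F)
  exact ⟨N, ⟨e⟩, ⟨((Scheme.Modules.restrictFunctorAdjCounitIso V.ι).app F).symm ≪≫
    ((Scheme.Modules.restrictFunctor V.ι).mapIso e).symm⟩⟩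

theorem exists_tilde_finite (hV : IsCompact (V : Set (Spec R))) (F : (V : Scheme.{u}).Modules)
    (hF : Coh.IsCoh F) :
    ∃ N : ModuleCat.{u} R, Module.Finite R N ∧ Nonempty (F ≅ (tilde N).restrict V.ι) := by
  classical
  haveI := hF.1
  obtain ⟨N, ⟨e⟩, -⟩ := exists_tilde V hV F
  let P := (Scheme.Modules.pushforward V.ι).obj F
  have loc : ∀ x : V, ∃ f : R, x.1 ∈ PrimeSpectrum.basicOpen f ∧ PrimeSpectrum.basicOpen f ≤ V := by
    rintro ⟨x, hx⟩
    obtain ⟨_, ⟨_, ⟨f, rfl⟩, rfl⟩, hxf, hle⟩ :=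
      PrimeSpectrum.isBasis_basic_opens.exists_subset_of_mem_open hx V.2
    exact ⟨f, hxf, hle⟩
  choose f hxf hfV using loc
  let B : V → (Spec R).Opens := fun x => PrimeSpectrum.basicOpen (f x)
  obtain ⟨t, ht⟩ := hV.elim_finite_subcover (fun x : V => (B x : Set (Spec R)))
    (fun x => (B x).2) fun x hx => Set.mem_iUnion.2 ⟨⟨x, hx⟩, hxf _⟩
  have gens : ∀ x : V, ∃ S : Finset N, ∀ (z : Spec R) (hz : z ∈ PrimeSpectrum.basicOpen (f x))
      (s : Γ(P, PrimeSpectrum.basicOpen (f x))),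
      P.presheaf.germ (PrimeSpectrum.basicOpen (f x)) z hz s ∈ Submodule.span ((Spec R).presheaf.stalk z)
        ((fun n : N => P.presheaf.germ ⊤ z trivial (e.hom.app ⊤ ((tilde.toOpen N ⊤).hom n))) '' (S : Set N)) := by
    intro x
    let D := (PrimeSpectrum.basicOpen (f x) : (Spec R).Opens)
    have hD : IsAffineOpen (V.ι ⁻¹ᵁ D) := (IsAffineOpen.Spec_basicOpen (f x)).preimage_of_isOpenImmersion V.ι
      (by rw [Scheme.Opens.opensRange_ι]; exact hfV x)
    obtain ⟨T, hT⟩ := (QCohLib.finite_sections F hF.2 hD).fg_top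
    let eD : Γ(tilde N, D) → Γ(F, V.ι ⁻¹ᵁ D) := fun s => e.hom.app D s
    have rep : ∀ s : T, ∃ (k : ℕ) (n : N), (tilde.toOpen N D).hom n = (f x) ^ k • (e.inv.app D (show Γ(P, D) from s.1)) := by
      intro s
      obtain ⟨⟨n, c, k, rfl⟩, hn⟩ := IsLocalizedModule.surj (Submonoid.powers (f x)) (tilde.toOpen N D).hom
        (e.inv.app D (show Γ(P, D) from s.1))
      exact ⟨k, n, hn.symm⟩
    choose k n hn using rep
    refine ⟨Finset.univ.image n, fun z hz s => ?_⟩
    have hs : (show Γ(F, V.ι ⁻¹ᵁ D) from s) ∈ Submodule.span Γ((V : Scheme.{u}), V.ι ⁻¹ᵁ D) (T : Set Γ(F, V.ι ⁻¹ᵁ D)) :=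
      hT.ge Submodule.mem_top
    haveI : IsIso (V.ι.app D) := V.ι.isIso_app D (by rw [Scheme.Opens.opensRange_ι]; exact hfV x)
    suffices ∀ y : Γ(F, V.ι ⁻¹ᵁ D), y ∈ Submodule.span Γ((V : Scheme.{u}), V.ι ⁻¹ᵁ D) (T : Set Γ(F, V.ι ⁻¹ᵁ D)) →
        P.presheaf.germ D z hz (show Γ(P, D) from y) ∈ Submodule.span ((Spec R).presheaf.stalk z)
          ((fun n : N => P.presheaf.germ ⊤ z trivial (e.hom.app ⊤ ((tilde.toOpen N ⊤).hom n))) '' (Finset.univ.image n : Set N)) from
      this s hs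
    intro y hy
    induction hy using Submodule.span_induction with
    | mem y hy =>
      have h1 : (tilde.toOpen N D).hom (n ⟨y, hy⟩) = (f x) ^ k ⟨y, hy⟩ • e.inv.app D (show Γ(P, D) from y) := hn _
      rw [Scheme.Modules.smul_Spec_def] at h1
      have h2 := congrArg (fun w => P.presheaf.germ D z hz (e.hom.app D w)) h1
      simp only [Scheme.Modules.Hom.app_smul] at h2
      rw [ParaFLib.germ_smul' z] at h2
      rw [show e.hom.app D (e.inv.app D (show Γ(P, D) from y)) = (show Γ(P, D) from y) from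
        congr(($(e.inv_hom_id)).app D (show Γ(P, D) from y))] at h2
      have h3 : P.presheaf.germ D z hz (e.hom.app D ((tilde.toOpen N D).hom (n ⟨y, hy⟩))) =
          P.presheaf.germ ⊤ z trivial (e.hom.app ⊤ ((tilde.toOpen N ⊤).hom (n ⟨y, hy⟩))) := by
        rw [← TopCat.Presheaf.germ_res_apply P.presheaf (homOfLE (le_top : D ≤ ⊤)) z hz]
        refine congrArg _ ?_
        exact ConcreteCategory.congr_hom (e.hom.mapPresheaf.naturality (homOfLE (le_top : D ≤ ⊤)).op) ((tilde.toOpen N ⊤).hom (n ⟨y, hy⟩))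
      have hu : IsUnit ((Spec R).presheaf.germ D z hz ((Spec R).presheaf.map D.leTop.op
          ((Scheme.ΓSpecIso R).inv ((f x) ^ k ⟨y, hy⟩)))) := by
        refine IsUnit.map _ ?_
        rw [map_pow, map_pow]
        exact (IsLocalization.Away.algebraMap_isUnit (f x)).pow _
      obtain ⟨u, hu'⟩ := hu
      rw [← hu'] at h2
      rw [show P.presheaf.germ D z hz (show Γ(P, D) from y) = (↑u⁻¹ : (Spec R).presheaf.stalk z) •
        P.presheaf.germ D z hz (e.hom.app D ((tilde.toOpen N D).hom (n ⟨y, hy⟩))) by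
          rw [h2, smul_smul, Units.inv_mul, one_smul], h3]
      exact Submodule.smul_mem _ _ (Submodule.subset_span ⟨n ⟨y, hy⟩,
        Finset.mem_coe.2 (Finset.mem_image.2 ⟨⟨y, hy⟩, Finset.mem_univ _, rfl⟩), rfl⟩)
    | zero => rw [show P.presheaf.germ D z hz (show Γ(P, D) from (0 : Γ(F, V.ι ⁻¹ᵁ D))) = 0 from map_zero _]; exact zero_mem _
    | add a b _ _ ha hb =>
      rw [show P.presheaf.germ D z hz (show Γ(P, D) from a + b) =
        P.presheaf.germ D z hz (show Γ(P, D) from a) + P.presheaf.germ D z hz (show Γ(P, D) from b) from map_add _ _ _]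
      exact add_mem ha hb
    | smul r a _ ha =>
      obtain ⟨r₀, rfl⟩ := (ConcreteCategory.bijective_of_isIso (V.ι.app D)).2 r
      show P.presheaf.germ D z hz (r₀ • (show Γ(P, D) from a)) ∈ _
      rw [ParaFLib.germ_smul' z]
      exact Submodule.smul_mem _ _ ha
  choose S hS using gens
  let N' : Submodule R N := Submodule.span R ((t.biUnion S : Finset N) : Set N)
  let j : ModuleCat.of R N' ⟶ N := ModuleCat.ofHom N'.subtype
  haveI : Mono j := (ModuleCat.mono_iff_injective _).2 N'.injective_subtype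
  let ψ : tilde (ModuleCat.of R N') ⟶ P := tilde.map j ≫ e.hom
  haveI : Mono (tilde.map j) := TildeD.mono_tilde_map j
  haveI : Mono ψ := mono_comp _ _
  have hsurj : ∀ z ∈ V, Function.Surjective (stalkLin ψ z) := by
    intro z hz
    rw [← LinearMap.range_eq_top, eq_top_iff]
    intro w _
    obtain ⟨x, hxt, hzx⟩ := Set.mem_iUnion₂.1 (ht hz)
    obtain ⟨O, hzO, s, rfl⟩ := TopCat.Presheaf.exists_germ_eq P.presheaf w
    haveI : Coh.IsQCoh P := DCohLib.isQCoh_of_iso' e inferInstance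
    have hspan := ProjBundleLib.span_germ_of_isGloballyGenerated
      (AmpleLib.isGloballyGenerated_of_isQuasiAffine P) z
    have hall : ∀ σ : Γ(P, ⊤), P.presheaf.germ ⊤ z trivial σ ∈ LinearMap.range (stalkLin ψ z) := by
      intro σ
      have h1 := hS x z hzx (P.presheaf.map (homOfLE (le_top : (PrimeSpectrum.basicOpen (f x) : (Spec R).Opens) ≤ ⊤)).op σ)
      rw [TopCat.Presheaf.germ_res_apply] at h1
      refine (Submodule.span_le.2 ?_) h1
      rintro _ ⟨m, hm, rfl⟩
      refine ⟨(tilde (ModuleCat.of R N')).presheaf.germ ⊤ z trivial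
        ((tilde.toOpen (ModuleCat.of R N') ⊤).hom ⟨m, Submodule.subset_span (Finset.mem_biUnion.2 ⟨x, hxt, hm⟩)⟩), ?_⟩
      rw [stalkLin_germ]
      refine congrArg (P.presheaf.germ ⊤ z trivial) ?_
      show e.hom.app ⊤ ((tilde.map j).app ⊤ _) = _
      exact congrArg (e.hom.app ⊤) (ConcreteCategory.congr_hom (tilde.toOpen_map_app j ⊤) (⟨m, Submodule.subset_span (Finset.mem_biUnion.2 ⟨x, hxt, hm⟩)⟩ : N') :)
    have : Submodule.span ((Spec R).presheaf.stalk z) (Set.range fun σ : Γ(P, ⊤) => P.presheaf.germ ⊤ z trivial σ) ≤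
        LinearMap.range (stalkLin ψ z) := Submodule.span_le.2 (by rintro _ ⟨σ, rfl⟩; exact hall σ)
    exact this (hspan ▸ Submodule.mem_top)
  let R' := Scheme.Modules.restrictFunctor V.ι
  haveI : IsIso (R'.map ψ) := (isIso_iff_stalk _).2 fun y => by
    let eA := ((Scheme.Modules.restrictStalkNatIso V.ι y).app (tilde (ModuleCat.of R N'))).addCommGroupIsoToAddEquiv
    let eB := ((Scheme.Modules.restrictStalkNatIso V.ι y).app P).addCommGroupIsoToAddEquiv
    have hn : ∀ w, eB (stalkLin (R'.map ψ) y w) = stalkLin ψ (V.ι y) (eA w) := fun w =>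
      congr($((Scheme.Modules.restrictStalkNatIso V.ι y).hom.naturality ψ) w)
    refine ⟨fun a b h => eA.injective ((mono_iff_stalk ψ).1 inferInstance (V.ι y) (by rw [← hn, ← hn, h])), fun c => ?_⟩
    obtain ⟨w, hw⟩ := hsurj (V.ι y) y.2 (eB c)
    exact ⟨eA.symm w, eB.injective (by rw [hn, AddEquiv.apply_symm_apply, hw])⟩
  exact ⟨ModuleCat.of R N', Module.Finite.iff_fg.2 ⟨t.biUnion S, rfl⟩,
    ⟨((Scheme.Modules.restrictFunctorAdjCounitIso V.ι).app F).symm ≪≫ (asIso (R'.map ψ)).symm⟩⟩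

theorem isCoh_restrict_tilde [IsNoetherianRing R] (M : ModuleCat.{u} R) [Module.Finite R M] :
    Coh.IsCoh ((tilde M).restrict V.ι) := by
  have hq : Coh.IsQCoh (tilde M) := inferInstance
  refine ProjBundleLib.isCoh_restrict_open hq ?_ V
  haveI := hq
  refine QCohLib.isFiniteType_of_finite _ (fun _ : PUnit => ⊤)
    (fun _ => isAffineOpen_top _) iSup_const fun _ => ?_
  haveI : Module.Finite R Γ(tilde M, ⊤) := Module.Finite.equiv (tilde.isoTop M).toLinearEquiv
  exact Module.Finite.of_restrictScalars_finite R _ _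

theorem isCoh_of_iso' {X : Scheme.{u}} {M N : X.Modules} (e : M ≅ N) (h : Coh.IsCoh M) : Coh.IsCoh N := by
  haveI := h.1
  haveI : Coh.IsQCoh N := DCohLib.isQCoh_of_iso' e h.1
  refine QCohLib.isCoh_of_finite N fun W hW => ?_
  haveI := QCohLib.finite_sections_of_isCoh h hW
  exact Module.Finite.of_surjective
    ({ toFun := e.hom.app W, map_add' := map_add _, map_smul' := fun r m => e.hom.app_smul r m } :
      Γ(M, W) →ₗ[Γ(X, W)] Γ(N, W))
    fun n => ⟨e.inv.app W n, congr(($(e.inv_hom_id)).app W n)⟩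

end Groth.Agent.TildeOpenLib
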